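import Groth.Prelude.Def_DerLim
import Mathlib.CategoryTheory.Triangulated.Generators
import Mathlib.CategoryTheory.EssentiallySmall

/-!
# Relative classical generation

In a triangulated category with direct sums, let `P` be a class closed under sums and triangles in which a
class `C₀` of objects is compact. If `G` in `C₀` detects zero objects of `P`, then every object of `C₀` is
contained in every thick class containing `G`.
-/

set_option autoImplicit false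
set_option linter.style.haveILetI false

universe w v d

open CategoryTheory CategoryTheory.Limits CategoryTheory.Pretriangulated ZeroObject

namespace Groth.DerivedCoh.ClassGen

variable {D : Type d} [Category.{v} D] [Preadditive D] [HasCoproducts.{w} D]

/-- maps from members of `C₀` into sums of members of `P` are finite sums -/
def CptRel (C₀ P : ObjectProperty D) : Prop :=
  ∀ C : D, C₀ C → ∀ (J : Type w) (Y : J → D), (∀ j, P (Y j)) → ∀ φ : C ⟶ ∐ Y,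
    ∃ (S : Finset J) (f : ∀ j, C ⟶ Y j), φ = ∑ j ∈ S, f j ≫ Sigma.ι Y j

variable {C₀ P : ObjectProperty D} [HasColimitsOfShape (Discrete ℕ) D]

lemma induction_nat (hcpt : CptRel.{w} C₀ P) {C : D} (hC : C₀ C) (K : ℕ → D) (hK : ∀ n, P (K n))
    {p : (C ⟶ ∐ K) → Prop} (h0 : p 0) (hof : ∀ (n : ℕ) (b : C ⟶ K n), p (b ≫ Sigma.ι K n))
    (hadd : ∀ a b, p a → p b → p (a + b)) (a : C ⟶ ∐ K) : p a := by
  classical
  let K' : ULift.{w} ℕ → D := fun j => K j.down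
  let e : ∐ K' ⟶ ∐ K := Sigma.desc fun j => Sigma.ι K j.down
  let e' : (∐ K) ⟶ ∐ K' := Sigma.desc fun n => Sigma.ι K' ⟨n⟩
  have he : e' ≫ e = 𝟙 _ := Sigma.hom_ext _ _ fun n => by simp [e, e', K']
  obtain ⟨S, f, hf⟩ := hcpt C hC _ K' (fun j => hK j.down) (a ≫ e')
  have : a = ∑ j ∈ S, f j ≫ Sigma.ι K j.down := by
    rw [← Category.comp_id a, ← he, ← Category.assoc, hf, Preadditive.sum_comp]
    exact Finset.sum_congr rfl fun j _ => by simp [e, K']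
  rw [this]
  exact Finset.sum_induction _ p hadd h0 fun j _ => hof j.down (f j)

variable (K : ℕ → D) (f : ∀ n, K n ⟶ K (n + 1))

/-- projection to the summands of index `< N` -/
noncomputable def pr (N : ℕ) : (∐ K) ⟶ ∐ K := Sigma.desc fun n => if n < N then Sigma.ι K n else 0

lemma shift_pr (N : ℕ) : DerLim.shiftMap K f ≫ pr K (N + 1) = pr K N ≫ DerLim.shiftMap K f := by
  refine Sigma.hom_ext _ _ fun n => ?_
  rw [DerLim.shiftMap, Sigma.ι_desc_assoc, Category.assoc, pr, pr, Sigma.ι_desc, Sigma.ι_desc_assoc]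
  by_cases h : n < N
  · rw [if_pos h, if_pos (Nat.succ_lt_succ h), Sigma.ι_desc]
  · rw [if_neg h, if_neg (fun h' => h (Nat.lt_of_succ_lt_succ h')), comp_zero, zero_comp]

lemma exists_pr (hcpt : CptRel.{w} C₀ P) (hK : ∀ n, P (K n)) {C : D} (hC : C₀ C) (a : C ⟶ ∐ K) :
    ∃ N, ∀ M, N ≤ M → a ≫ pr K M = a := by
  refine induction_nat hcpt hC K hK (p := fun a => ∃ N, ∀ M, N ≤ M → a ≫ pr K M = a)
    ⟨0, fun M _ => zero_comp⟩ (fun n b => ⟨n + 1, fun M hM => ?_⟩) ?_ a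
  · rw [Category.assoc, pr, Sigma.ι_desc, if_pos (by omega)]
  · rintro a b ⟨N, hN⟩ ⟨N', hN'⟩
    exact ⟨max N N', fun M hM => by
      rw [Preadditive.add_comp, hN M (le_of_max_le_left hM), hN' M (le_of_max_le_right hM)]⟩

lemma eq_zero_of_comp (hcpt : CptRel.{w} C₀ P) (hK : ∀ n, P (K n)) {C : D} (hC : C₀ C) (a : C ⟶ ∐ K)
    (h : a ≫ (𝟙 (∐ K) - DerLim.shiftMap K f) = 0) : a = 0 := by
  have ha : a ≫ DerLim.shiftMap K f = a := by
    rw [Preadditive.comp_sub, Category.comp_id, sub_eq_zero] at h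
    exact h.symm
  have hN : ∀ N, a ≫ pr K N = 0 := by
    intro N
    induction N with
    | zero =>
      have : pr K 0 = 0 := Sigma.hom_ext _ _ fun n => by simp [pr]
      rw [this, comp_zero]
    | succ N ih => rw [← ha, Category.assoc, shift_pr, ← Category.assoc, ih, zero_comp]
  obtain ⟨N, hN'⟩ := exists_pr K hcpt hK hC a
  rw [← hN' N le_rfl, hN]

variable [HasZeroObject D] [HasShift D ℤ] [∀ n : ℤ, (shiftFunctor D n).Additive] [Pretriangulated D]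

lemma exists_factor [C₀.IsTriangulated] (hcpt : CptRel.{w} C₀ P) (hK : ∀ n, P (K n)) {C : D} (hC : C₀ C) {L : D}
    (i : ∀ n, K n ⟶ L) (c : L ⟶ (∐ K)⟦(1 : ℤ)⟧)
    (hT : Triangle.mk (𝟙 (∐ K) - DerLim.shiftMap K f) (Sigma.desc i) c ∈ distinguishedTriangles)
    (hi : ∀ n, f n ≫ i (n + 1) = i n) (x : C ⟶ L) : ∃ (N : ℕ) (b : C ⟶ K N), x = b ≫ i N := by
  have hc : x ≫ c = 0 := by
    let e : (C⟦(-1 : ℤ)⟧)⟦(1 : ℤ)⟧ ≅ C := (shiftFunctorCompIsoId D (-1) 1 (by omega)).app C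
    obtain ⟨a, ha⟩ := (shiftFunctor D (1 : ℤ)).map_surjective (e.hom ≫ x ≫ c)
    have h0 : a ≫ (𝟙 (∐ K) - DerLim.shiftMap K f) = 0 := by
      apply (shiftFunctor D (1 : ℤ)).map_injective
      have h3 : c ≫ (𝟙 (∐ K) - DerLim.shiftMap K f)⟦(1 : ℤ)⟧' = 0 := comp_distTriang_mor_zero₃₁ _ hT
      rw [Functor.map_comp, Functor.map_zero, ha, Category.assoc, Category.assoc, h3, comp_zero, comp_zero]
    rw [← cancel_epi e.hom, comp_zero, ← ha,
      eq_zero_of_comp K f hcpt hK (C₀.le_shift (-1 : ℤ) _ hC) a h0, Functor.map_zero]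
  obtain ⟨a, rfl⟩ := Triangle.coyoneda_exact₃ _ hT x hc
  have mono : ∀ N M, N ≤ M → ∀ b : C ⟶ K N, ∃ b' : C ⟶ K M, b ≫ i N = b' ≫ i M := by
    intro N M h
    induction h with
    | refl => exact fun b => ⟨b, rfl⟩
    | step h ih =>
      intro b
      obtain ⟨b', hb'⟩ := ih b
      exact ⟨b' ≫ f _, by rw [hb', Category.assoc, hi]⟩
  change ∃ (N : ℕ) (b : C ⟶ K N), a ≫ Sigma.desc i = b ≫ i N
  refine induction_nat hcpt hC K hK (p := fun a => ∃ (N : ℕ) (b : C ⟶ K N), a ≫ Sigma.desc i = b ≫ i N)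
    ⟨0, 0, by rw [zero_comp, zero_comp]⟩ (fun n b => ⟨n, b, by simp⟩) ?_ a
  rintro a a' ⟨N, b, hb⟩ ⟨N', b', hb'⟩
  obtain ⟨b₁, hb₁⟩ := mono N (max N N') (le_max_left _ _) b
  obtain ⟨b₂, hb₂⟩ := mono N' (max N N') (le_max_right _ _) b'
  exact ⟨_, b₁ + b₂, by rw [Preadditive.add_comp, hb, hb', hb₁, hb₂, Preadditive.add_comp]⟩

omit [HasColimitsOfShape (Discrete ℕ) D] in
/-- one step of the tower -/
lemma exists_step [LocallySmall.{w} D] (G : D) {X K : D} (p : K ⟶ X) :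
    ∃ (K' : D) (f : K ⟶ K') (p' : K' ⟶ X), f ≫ p' = p ∧
      (∀ (m : ℤ) (b : G⟦m⟧ ⟶ K), b ≫ p = 0 → b ≫ f = 0) ∧
      ∃ (κ : Type w) (m : κ → ℤ) (y : (∐ fun k => (shiftFunctor D (m k)).obj G) ⟶ K)
        (z : K' ⟶ (shiftFunctor D (1 : ℤ)).obj (∐ fun k => (shiftFunctor D (m k)).obj G)),
        Triangle.mk y f z ∈ distinguishedTriangles := by
  let κ : Type w := Σ m : ULift.{w} ℤ, Shrink.{w} {b : G⟦m.down⟧ ⟶ K // b ≫ p = 0}
  let m : κ → ℤ := fun k => k.1.down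
  let y : (∐ fun k => (shiftFunctor D (m k)).obj G) ⟶ K :=
    Sigma.desc fun k => ((equivShrink _).symm k.2).1
  obtain ⟨K', f, z, hT⟩ := distinguished_cocone_triangle y
  have hy : y ≫ p = 0 := Sigma.hom_ext _ _ fun k => by
    rw [Sigma.ι_desc_assoc, ((equivShrink _).symm k.2).2, comp_zero]
  obtain ⟨p', hp'⟩ := Triangle.yoneda_exact₂ _ hT p hy
  refine ⟨K', f, p', hp'.symm, fun n b hb => ?_, κ, m, y, z, hT⟩
  have h : y ≫ f = 0 := comp_distTriang_mor_zero₁₂ _ hT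
  have := congrArg (Sigma.ι (fun k => (shiftFunctor D (m k)).obj G) ⟨⟨n⟩, equivShrink _ ⟨b, hb⟩⟩ ≫ ·) h
  simpa [y] using this

/-- maps factoring through a member of both classes -/
def Fact (C₀ Q : ObjectProperty D) {C K : D} (φ : C ⟶ K) : Prop :=
  ∃ (B : D) (g : C ⟶ B) (h : B ⟶ K), C₀ B ∧ Q B ∧ g ≫ h = φ

variable {Q : ObjectProperty D}

omit [HasCoproducts.{w} D] [HasColimitsOfShape (Discrete ℕ) D] [HasZeroObject D] [HasShift D ℤ]
  [∀ n : ℤ, (shiftFunctor D n).Additive] [Pretriangulated D] in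
lemma Fact.comp {C K K' : D} {φ : C ⟶ K} (hφ : Fact C₀ Q φ) (k : K ⟶ K') : Fact C₀ Q (φ ≫ k) := by
  obtain ⟨B, g, h, hB, hB', rfl⟩ := hφ
  exact ⟨B, g, h ≫ k, hB, hB', (Category.assoc _ _ _).symm⟩

omit [HasCoproducts.{w} D] [HasColimitsOfShape (Discrete ℕ) D] in
lemma Fact.add [C₀.IsTriangulated] [Q.IsTriangulated] [C₀.IsClosedUnderIsomorphisms] [Q.IsClosedUnderIsomorphisms]
    {C K : D} {φ ψ : C ⟶ K} (hφ : Fact C₀ Q φ) (hψ : Fact C₀ Q ψ) : Fact C₀ Q (φ + ψ) := by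
  obtain ⟨B, g, h, hB, hQ, rfl⟩ := hφ
  obtain ⟨B', g', h', hB', hQ', rfl⟩ := hψ
  haveI := HasBinaryBiproducts.of_hasBinaryProducts (C := D)
  have hT := binaryBiproductTriangle_distinguished B B'
  exact ⟨B ⊞ B', biprod.lift g g', biprod.desc h h',
    C₀.ext_of_isTriangulatedClosed₂ _ hT hB hB', Q.ext_of_isTriangulatedClosed₂ _ hT hQ hQ',
    biprod.lift_desc⟩

variable [C₀.IsTriangulated] [Q.IsTriangulated] [C₀.IsClosedUnderIsomorphisms] [Q.IsClosedUnderIsomorphisms]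
  [P.IsTriangulated] [P.IsClosedUnderIsomorphisms]

omit [HasColimitsOfShape (Discrete ℕ) D] in
lemma fact_coprod (hcpt : CptRel.{w} C₀ P) {G : D} (hG : C₀ G) (hGQ : Q G) (hGP : P G) {C : D} (hC : C₀ C)
    {κ : Type w} (m : κ → ℤ) (φ : C ⟶ ∐ fun k => (shiftFunctor D (m k)).obj G) : Fact C₀ Q φ := by
  classical
  obtain ⟨S, f, rfl⟩ := hcpt C hC κ _ (fun k => P.le_shift (m k) _ hGP) φ
  refine Finset.sum_induction _ (fun φ => Fact C₀ Q φ) (fun a b => Fact.add) ?_ fun k _ =>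
    ⟨_, f k, _, C₀.le_shift (m k) _ hG, Q.le_shift (m k) _ hGQ, rfl⟩
  exact ⟨0, 0, 0, C₀.prop_zero, Q.prop_zero, zero_comp⟩

omit [HasColimitsOfShape (Discrete ℕ) D] in
theorem fact_tower (hcpt : CptRel.{w} C₀ P) {G : D} (hG : C₀ G) (hGQ : Q G) (hGP : P G)
    (h0 : ∃ (κ : Type w) (m : κ → ℤ), Nonempty (K 0 ≅ ∐ (fun k => (shiftFunctor D (m k)).obj G)))
    (hstep : ∀ n, ∃ (κ : Type w) (m : κ → ℤ) (y : (∐ fun k => (shiftFunctor D (m k)).obj G) ⟶ K n)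
      (z : K (n + 1) ⟶ (shiftFunctor D (1 : ℤ)).obj (∐ fun k => (shiftFunctor D (m k)).obj G)),
      Triangle.mk y (f n) z ∈ distinguishedTriangles)
    (n : ℕ) : ∀ (C : D), C₀ C → ∀ φ : C ⟶ K n, Fact C₀ Q φ := by
  induction n with
  | zero =>
    intro C hC φ
    obtain ⟨κ, m, ⟨e⟩⟩ := h0
    simpa using (fact_coprod hcpt hG hGQ hGP hC m (φ ≫ e.hom)).comp e.inv
  | succ n ih =>
    intro C hC φ
    obtain ⟨κ, m, y, z, hT⟩ := hstep n
    let S := shiftEquiv D (1 : ℤ)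
    obtain ⟨w, hw⟩ : ∃ w : C⟦(-1 : ℤ)⟧ ⟶ ∐ fun k => (shiftFunctor D (m k)).obj G,
        S.counitIso.inv.app C ≫ w⟦(1 : ℤ)⟧' = φ ≫ z := by
      refine ⟨(shiftFunctor D (1 : ℤ)).preimage (S.counitIso.hom.app C ≫ φ ≫ z), ?_⟩
      erw [Functor.map_preimage]
      exact Iso.inv_hom_id_app_assoc _ _ _
    obtain ⟨B, g, h, hB, hBQ, hgh⟩ := fact_coprod hcpt hG hGQ hGP (C₀.le_shift (-1 : ℤ) _ hC) m w
    let ψ₀ : C ⟶ B⟦(1 : ℤ)⟧ := S.counitIso.inv.app C ≫ g⟦(1 : ℤ)⟧'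
    have hψ₀ : ψ₀ ≫ h⟦(1 : ℤ)⟧' = φ ≫ z := by
      simp only [ψ₀, Category.assoc]
      exact (congrArg (_ ≫ ·) ((Functor.map_comp _ _ _).symm.trans (congrArg _ hgh))).trans hw
    obtain ⟨C', u, v', hT₀⟩ := distinguished_cocone_triangle₂ ψ₀
    have hC' : C₀ C' := C₀.ext_of_isTriangulatedClosed₂ _ hT₀ hB hC
    obtain ⟨φ', h₁, -⟩ := complete_distinguished_triangle_morphism₂ _ _ hT₀ hT h φ hψ₀
    obtain ⟨B', g', h', hB', hBQ', hgh'⟩ := ih C' hC' φ'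
    change C' ⟶ K n at φ'
    change u ≫ φ' = h ≫ y at h₁
    change g' ≫ h' = φ' at hgh'
    obtain ⟨B'', p, c, hT''⟩ := distinguished_cocone_triangle (u ≫ g')
    obtain ⟨α, -, hα⟩ := complete_distinguished_triangle_morphism _ _ hT₀ hT'' (𝟙 B) g'
      (show u ≫ g' = 𝟙 B ≫ u ≫ g' from (Category.id_comp _).symm)
    obtain ⟨β, -, hβ⟩ := complete_distinguished_triangle_morphism _ _ hT'' hT h h'
      (show (u ≫ g') ≫ h' = h ≫ y by rw [Category.assoc, hgh', h₁])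
    change C ⟶ B'' at α
    change B'' ⟶ K (n + 1) at β
    change ψ₀ ≫ (𝟙 B)⟦(1 : ℤ)⟧' = α ≫ c at hα
    change c ≫ h⟦(1 : ℤ)⟧' = β ≫ z at hβ
    rw [CategoryTheory.Functor.map_id, Category.comp_id] at hα
    obtain ⟨δ, hδ⟩ := Triangle.coyoneda_exact₃ _ hT (φ - α ≫ β) (by
      change (φ - α ≫ β) ≫ z = 0
      rw [Preadditive.sub_comp, Category.assoc, ← hβ, ← Category.assoc, ← hα, hψ₀, sub_self])
    change φ - α ≫ β = δ ≫ f n at hδ
    rw [eq_add_of_sub_eq hδ]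
    exact ((ih C hC δ).comp (f n)).add ⟨B'', α, β, C₀.ext_of_isTriangulatedClosed₃ _ hT'' hB hB',
      Q.ext_of_isTriangulatedClosed₃ _ hT'' hBQ hBQ', rfl⟩

/-- A detecting compact object classically generates the compact objects. -/
theorem prop_of_generates [LocallySmall.{w} D] [Q.IsStableUnderRetracts]
    (hsum : ∀ (J : Type w) (Y : J → D), (∀ j, P (Y j)) → P (∐ Y))
    (hcpt : CptRel.{w} C₀ P) (hle : C₀ ≤ P) {G : D} (hG : C₀ G) (hGQ : Q G)
    (hgen : ∀ Z : D, P Z → (∀ (n : ℤ) (φ : G⟦n⟧ ⟶ Z), φ = 0) → IsZero Z)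
    (X : D) (hX : C₀ X) : Q X := by
  classical
  have hGP := hle _ hG
  choose next fn pn hpn hkill hcell using fun (s : Σ K : D, K ⟶ X) => exists_step G s.2
  let κ₀ : Type w := Σ m : ULift.{w} ℤ, Shrink.{w} (G⟦m.down⟧ ⟶ X)
  let K₀ : D := ∐ fun k : κ₀ => (shiftFunctor D k.1.down).obj G
  let p₀ : K₀ ⟶ X := Sigma.desc fun k : κ₀ => (equivShrink _).symm k.2
  let st : ℕ → Σ K : D, K ⟶ X := fun n => Nat.rec ⟨K₀, p₀⟩ (fun _ s => ⟨next s, pn s⟩) n
  let K : ℕ → D := fun n => (st n).1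
  let p : ∀ n, K n ⟶ X := fun n => (st n).2
  let f : ∀ n, K n ⟶ K (n + 1) := fun n => fn (st n)
  have hfp : ∀ n, f n ≫ p (n + 1) = p n := fun n => hpn (st n)
  have hKP : ∀ n, P (K n) := by
    intro n
    induction n with
    | zero => exact hsum _ _ fun k => P.le_shift _ _ hGP
    | succ n ih =>
      obtain ⟨κ, m, y, z, hT⟩ := hcell (st n)
      exact P.ext_of_isTriangulatedClosed₃ _ hT (hsum _ _ fun k => P.le_shift _ _ hGP) ih
  obtain ⟨L, g, c, hT⟩ := distinguished_cocone_triangle (𝟙 (∐ K) - DerLim.shiftMap K f)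
  obtain ⟨j, rfl⟩ : ∃ j : ∀ n, K n ⟶ L, Sigma.desc j = g :=
    ⟨fun n => Sigma.ι K n ≫ g, Sigma.hom_ext _ _ fun n => by simp⟩
  have hsumK : P (∐ K) := by
    let K' : ULift.{w} ℕ → D := fun i => K i.down
    let e : ∐ K ≅ ∐ K' :=
      { hom := Sigma.desc fun n => Sigma.ι K' ⟨n⟩
        inv := Sigma.desc fun i => Sigma.ι K i.down
        hom_inv_id := Sigma.hom_ext _ _ fun n => by simp [K']
        inv_hom_id := Sigma.hom_ext _ _ fun i => by simp [K'] }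
    exact P.prop_of_iso e.symm (hsum _ _ fun i => hKP i.down)
  have hLP : P L := P.ext_of_isTriangulatedClosed₃ _ hT hsumK hsumK
  have huj : (𝟙 (∐ K) - DerLim.shiftMap K f) ≫ Sigma.desc j = 0 := comp_distTriang_mor_zero₁₂ _ hT
  have hj : ∀ n, f n ≫ j (n + 1) = j n := fun n => by
    have h := congrArg (Sigma.ι K n ≫ ·) huj
    simp only [Preadditive.sub_comp, Category.id_comp, Preadditive.comp_sub, DerLim.shiftMap,
      Sigma.ι_desc_assoc, Category.assoc, Sigma.ι_desc, comp_zero, sub_eq_zero] at h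
    exact h.symm
  have hup : (𝟙 (∐ K) - DerLim.shiftMap K f) ≫ Sigma.desc p = 0 := Sigma.hom_ext _ _ fun n => by
    simp only [Preadditive.sub_comp, Category.id_comp, Preadditive.comp_sub, DerLim.shiftMap,
      Sigma.ι_desc_assoc, Category.assoc, Sigma.ι_desc, comp_zero]
    exact sub_eq_zero.2 (hfp n).symm
  obtain ⟨π, hπ⟩ := Triangle.yoneda_exact₂ _ hT (Sigma.desc p) hup
  change L ⟶ X at π
  change Sigma.desc p = Sigma.desc j ≫ π at hπ
  have hjπ : ∀ n, j n ≫ π = p n := fun n => by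
    have := congrArg (Sigma.ι K n ≫ ·) hπ
    simpa using this.symm
  have surj : ∀ (m : ℤ) (x : G⟦m⟧ ⟶ X), ∃ x' : G⟦m⟧ ⟶ L, x' ≫ π = x := fun m x =>
    ⟨Sigma.ι (fun k : κ₀ => (shiftFunctor D k.1.down).obj G) ⟨⟨m⟩, equivShrink _ x⟩ ≫ j 0, by
      rw [Category.assoc, hjπ]
      exact (Sigma.ι_desc _ _).trans ((equivShrink _).symm_apply_apply x)⟩
  have inj : ∀ (m : ℤ) (x : G⟦m⟧ ⟶ L), x ≫ π = 0 → x = 0 := by
    intro m x hx
    obtain ⟨N, b, rfl⟩ := exists_factor K f hcpt hKP (C₀.le_shift m _ hG) j c hT hj x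
    rw [Category.assoc, hjπ] at hx
    rw [← hj N, ← Category.assoc, show b ≫ f N = 0 from hkill (st N) m b hx, zero_comp]
  obtain ⟨Z, q, d, hC⟩ := distinguished_cocone_triangle π
  have hzero : ∀ (m : ℤ) (x : G⟦m⟧ ⟶ Z), x = 0 := by
    intro m x
    have hπq : π ≫ q = 0 := comp_distTriang_mor_zero₁₂ _ hC
    have hdπ : d ≫ π⟦(1 : ℤ)⟧' = 0 := comp_distTriang_mor_zero₃₁ _ hC
    let e : (G⟦m - 1⟧)⟦(1 : ℤ)⟧ ≅ G⟦m⟧ := ((shiftFunctorAdd' D (m - 1) 1 m (by omega)).app G).symm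
    obtain ⟨w, hw⟩ := (shiftFunctor D (1 : ℤ)).map_surjective (e.hom ≫ x ≫ d)
    have hw0 : w = 0 := inj (m - 1) w ((shiftFunctor D (1 : ℤ)).map_injective (by
      rw [Functor.map_comp, Functor.map_zero, hw, Category.assoc, Category.assoc, hdπ, comp_zero, comp_zero]))
    have hxd : x ≫ d = 0 := by rw [← cancel_epi e.hom, comp_zero, ← hw, hw0, Functor.map_zero]
    obtain ⟨t, rfl⟩ := Triangle.coyoneda_exact₃ _ hC x hxd
    change (t : _ ⟶ X) ≫ q = 0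
    obtain ⟨x', hx'⟩ := surj m t
    rw [← hx']
    exact (Category.assoc x' π q).trans ((congrArg (x' ≫ ·) hπq).trans comp_zero)
  have hZ : IsZero Z := hgen Z (P.ext_of_isTriangulatedClosed₃ _ hC hLP (hle _ hX)) hzero
  haveI : IsIso π := (Triangle.isZero₃_iff_isIso₁ _ hC).1 hZ
  obtain ⟨N, b, hb⟩ := exists_factor K f hcpt hKP hX j c hT hj (inv π)
  obtain ⟨B, u, v, -, hBQ, huv⟩ := fact_tower K f (Q := Q) hcpt hG hGQ hGP
    ⟨κ₀, fun k => k.1.down, ⟨Iso.refl _⟩⟩ (fun n => hcell (st n)) N X hX b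
  refine Q.prop_of_retract ⟨u, v ≫ p N, ?_⟩ hBQ
  rw [← Category.assoc, huv, ← hjπ, ← Category.assoc, ← hb, IsIso.inv_hom_id]

end Groth.DerivedCoh.ClassGen
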