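import Groth.Agent.Misc4.PerfectGenerator
import Groth.Agent.Misc4.PerfectCompactQCoh
import Groth.Agent.DerivedCoh.PerfPush.ProperSupp
import Groth.Agent.CohDescent.SmallDerived
import Groth.Agent.KTheory.PerfCoh
import Groth.Agent.DerivedCoh.ClassGen.Tower

/-!
# Perfect generators detect boundedness

For a filter `l` of integers invariant under translation (`atTop` and `atBot` are the relevant ones), the maps
from shifts `G⟦n⟧` vanish for `l`-almost all `n` if and only if `H^{-n}` vanishes for `l`-almost all `n`.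
-/

universe u

open CategoryTheory CategoryTheory.Limits Pretriangulated AlgebraicGeometry Filter
open Groth.KTheory.Perf
open Groth.Misc4
open Groth.Misc4.ApproxExtend
open Groth.Misc4.KoszulOrth Groth.Misc4.KoszulUnit Groth.Misc4.Thomason Groth.Misc4.ApproxGlue
open scoped ZeroObject

attribute [local instance] HasDerivedCategory.standard

set_option backward.isDefEq.respectTransparency false
set_option backward.defeqAttrib.useBackward true
set_option synthInstance.maxHeartbeats 400000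
set_option maxHeartbeats 1000000

namespace Groth.DerivedCoh.ClassGen

variable {X : Scheme.{u}}

/-- eventual vanishing of maps from shifts -/
def HomVan (l : Filter ℤ) (E : DCoh.D X) : ObjectProperty (DCoh.D X) :=
  fun B => ∀ᶠ n in l, ∀ φ : B⟦n⟧ ⟶ E, φ = 0

/-- eventual vanishing of cohomology -/
def Bd (l : Filter ℤ) (E : DCoh.D X) : Prop := ∀ᶠ n in l, IsZero (DCoh.HD E (-n))

variable (l : Filter ℤ)

/-- invariance under translations -/
def TransInv : Prop := ∀ a : ℤ, Tendsto (fun n => n + a) l l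

lemma transInv_atTop : TransInv (atTop : Filter ℤ) := fun a => tendsto_atTop_add_const_right _ a tendsto_id

lemma transInv_atBot : TransInv (atBot : Filter ℤ) := fun a => tendsto_atBot_add_const_right _ a tendsto_id

variable {l}

lemma homVan_shift (hl : TransInv l) {E B : DCoh.D X} (h : HomVan l E B) (a : ℤ) : HomVan l E (B⟦a⟧) := by
  refine ((hl a).eventually h).mono fun n hn φ => ?_
  let e := (shiftFunctorAdd' (DCoh.D X) a n (n + a) (by omega)).app B
  exact (cancel_epi e.hom).1 ((hn (e.hom ≫ φ)).trans comp_zero.symm)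

lemma homVan_obj₂ {E : DCoh.D X} (T : Triangle (DCoh.D X)) (hT : T ∈ distTriang _)
    (h₁ : HomVan l E T.obj₁) (h₃ : HomVan l E T.obj₃) : HomVan l E T.obj₂ := by
  refine (h₁.and h₃).mono fun n hn φ => ?_
  obtain ⟨ψ, hψ⟩ := Triangle.yoneda_exact₂ _ (Triangle.shift_distinguished T hT n) φ
    (hn.1 (((Triangle.shiftFunctor (DCoh.D X) n).obj T).mor₁ ≫ φ))
  rw [hψ]
  exact (congrArg (_ ≫ ·) (hn.2 ψ)).trans comp_zero

lemma homVan_retract {E B B' : DCoh.D X} (r : Retract B B') (h : HomVan l E B') : HomVan l E B :=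
  h.mono fun n hn φ => by
    rw [← (r.map (shiftFunctor (DCoh.D X) n)).retract_assoc φ]
    exact (congrArg (_ ≫ ·) (hn _)).trans comp_zero

lemma homVan_isClosedUnderIso (E : DCoh.D X) : (HomVan l E).IsClosedUnderIsomorphisms :=
  ⟨fun e h => homVan_retract (Retract.ofIso e.symm) h⟩

lemma homVan_isTriangulated (hl : TransInv l) (E : DCoh.D X) : (HomVan l E).IsTriangulated :=
  haveI := homVan_isClosedUnderIso (l := l) E
  {
  toContainsZero := ⟨⟨0, isZero_zero _, Eventually.of_forall fun n _ =>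
    ((shiftFunctor (DCoh.D X) n).map_isZero (isZero_zero _)).eq_of_src _ _⟩⟩
  toIsStableUnderShift :=
    ⟨fun a => ObjectProperty.IsStableUnderShiftBy.mk fun B hB => homVan_shift hl hB a⟩
  toIsTriangulatedClosed₂ := ObjectProperty.IsTriangulatedClosed₂.mk'
    (fun T hT h₁ h₃ => homVan_obj₂ T hT h₁ h₃) }

lemma homVan_retracts (E : DCoh.D X) : (HomVan l E).IsStableUnderRetracts :=
  ⟨fun r h => homVan_retract r h⟩

instance isPerfect_isClosedUnderIso :
    ObjectProperty.IsClosedUnderIsomorphisms (fun K : DCoh.D X => DCoh.IsPerfect K) :=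
  ⟨fun e h => isPerfect_of_iso e h⟩

instance isPerfect_isTriangulated :
    ObjectProperty.IsTriangulated (fun K : DCoh.D X => DCoh.IsPerfect K) where
  toContainsZero := ⟨⟨0, isZero_zero _, isPerfect_of_isZero (isZero_zero _)⟩⟩
  toIsStableUnderShift :=
    ⟨fun a => ObjectProperty.IsStableUnderShiftBy.mk fun B hB => isPerfect_shift hB a⟩
  toIsTriangulatedClosed₂ := ObjectProperty.IsTriangulatedClosed₂.mk'
    (fun T hT h₁ h₃ => isPerfect_obj₂ T hT h₁ h₃)

instance isQCohD_isClosedUnderIso :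
    ObjectProperty.IsClosedUnderIsomorphisms (fun K : DCoh.D X => DCoh.IsQCohD K) :=
  ⟨fun e h => Groth.Misc4.QCohDPerf.isQCohD_of_iso e h⟩

instance isQCohD_isTriangulated :
    ObjectProperty.IsTriangulated (fun K : DCoh.D X => DCoh.IsQCohD K) where
  toContainsZero := ⟨⟨0, isZero_zero _, fun _ => Groth.Misc4.QCohDPerf.isQCoh_isZero
    ((DerivedCategory.homologyFunctor _ _).map_isZero (isZero_zero _))⟩⟩
  toIsStableUnderShift :=
    ⟨fun a => ObjectProperty.IsStableUnderShiftBy.mk fun B hB => Groth.Misc4.QCohDPerf.isQCohD_shift hB a⟩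
  toIsTriangulatedClosed₂ := ObjectProperty.IsTriangulatedClosed₂.mk'
    (fun T hT h₁ h₃ => Groth.Misc4.QCohDPerf.isQCohD_obj₂ T hT h₁ h₃)

/-- A perfect generator classically generates, in the form needed here. -/
theorem homVan_of_generates [CompactSpace X] [QuasiSeparatedSpace X] (hl : TransInv l) {G : DCoh.D X}
    (hG : DCoh.IsPerfect G)
    (hgen : ∀ E : DCoh.D X, DCoh.IsQCohD E → (∀ (n : ℤ) (φ : G⟦n⟧ ⟶ E), φ = 0) → IsZero E)
    {E : DCoh.D X} (h : HomVan l E G) (P : DCoh.D X) (hP : DCoh.IsPerfect P) : HomVan l E P := by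
  classical
  haveI : HasCoproducts.{u} (DCoh.D X) := Groth.DerivedCoh.KInjRes.hasCoproducts
  haveI : HasColimitsOfShape (Discrete ℕ) (DCoh.D X) :=
    hasColimitsOfShape_of_equivalence (Discrete.equivalence (Equiv.ulift.{u} (α := ℕ)))
  haveI : LocallySmall.{u} (DCoh.D X) := ⟨fun A B => Groth.Agent.CohDescent.small_hom _ A B⟩
  haveI := homVan_isTriangulated hl E
  haveI := homVan_retracts (l := l) E
  haveI := homVan_isClosedUnderIso (l := l) E
  refine prop_of_generates (C₀ := fun K : DCoh.D X => DCoh.IsPerfect K)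
    (P := fun K : DCoh.D X => DCoh.IsQCohD K) (fun J Y hY => Groth.Misc4.QCohDSum.isQCohD_sigma X Y hY)
    (fun C hC J Y hY φ => ?_) (fun K hK => isQCohD_of_isPerfect hK) hG h hgen P hP
  obtain ⟨x, rfl⟩ := (Groth.Misc4.PerfectCompactQCoh.bijective C hC Y hY).2 φ
  refine ⟨DFinsupp.support x, fun j => x j, ?_⟩
  conv_lhs => rw [← DirectSum.sum_support_of x]
  rw [map_sum]
  exact Finset.sum_congr rfl fun j _ => Groth.Misc4.PerfectCompactQCoh.homSum_of C Y j (x j)

lemma bd_atTop_iff (E : DCoh.D X) : Bd atTop E ↔ ∃ a : ℤ, E.IsGE a := by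
  rw [Bd, eventually_atTop]
  constructor
  · rintro ⟨N, hN⟩
    exact ⟨-N + 1, (DerivedCategory.isGE_iff E _).2 fun i hi => neg_neg i ▸ hN (-i) (by omega)⟩
  · rintro ⟨a, ha⟩
    exact ⟨-a + 1, fun n hn => (DerivedCategory.isGE_iff E a).1 ha (-n) (by omega)⟩

lemma bd_atBot_iff (E : DCoh.D X) : Bd atBot E ↔ ∃ b : ℤ, E.IsLE b := by
  rw [Bd, eventually_atBot]
  constructor
  · rintro ⟨N, hN⟩
    exact ⟨-N, (DerivedCategory.isLE_iff E _).2 fun i hi => neg_neg i ▸ hN (-i) (by omega)⟩
  · rintro ⟨b, hb⟩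
    exact ⟨-b - 1, fun n hn => (DerivedCategory.isLE_iff E b).1 hb (-n) (by omega)⟩

/-- bounded below objects receive no maps from high shifts of perfect objects -/
lemma homVan_atTop [CompactSpace X] {E : DCoh.D X} (hE : Bd atTop E) {P : DCoh.D X}
    (hP : DCoh.IsPerfect P) : HomVan atTop E P := by
  obtain ⟨a, ha⟩ := (bd_atTop_iff E).1 hE
  obtain ⟨-, b, -, hb⟩ := Groth.KTheory.Perf.exists_bounds_of_isPerfect hP
  refine eventually_atTop.2 ⟨b - a + 1, fun n hn φ => ?_⟩
  have : (P⟦n⟧).IsLE (b - n) := Groth.Misc4.PerfVanishQcqs.isLE_shift hb n (b - n) (by omega)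
  exact DerivedCategory.TStructure.t.zero_of_isLE_of_isGE φ (b - n) a (by omega) this ha

/-- bounded above objects with quasi-coherent cohomology receive no maps from low shifts of perfect objects -/
lemma homVan_atBot [CompactSpace X] [QuasiSeparatedSpace X] {E : DCoh.D X} (hq : DCoh.IsQCohD E)
    (hE : Bd atBot E) {P : DCoh.D X} (hP : DCoh.IsPerfect P) : HomVan atBot E P := by
  obtain ⟨b, hb⟩ := (bd_atBot_iff E).1 hE
  obtain ⟨c, hc⟩ := Groth.Misc4.PerfVanishQcqs.van X P hP
  refine eventually_atBot.2 ⟨c - b, fun n hn φ => ?_⟩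
  let e := (shiftFunctorCompIsoId (DCoh.D X) n (-n) (by omega)).app P
  refine (shiftFunctor (DCoh.D X) (-n)).map_injective ?_
  rw [Functor.map_zero, ← cancel_epi e.inv, comp_zero]
  exact hc _ (Groth.Misc4.QCohDPerf.isQCohD_shift hq (-n)) (Groth.Misc4.PerfVanishQcqs.isLE_mono
    (Groth.Misc4.PerfVanishQcqs.isLE_shift hb (-n) (b + n) (by omega)) (by omega)) _

/-- A perfect detector of boundedness with support on each suitable closed subset. -/
def Det (l : Filter ℤ) (Y : Scheme.{u}) : Prop :=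
  ∀ (T : Set Y), IsClosed T → IsRetrocompact Tᶜ →
    ∃ P : DCoh.D Y, DCoh.IsPerfect P ∧ (∀ i, CohB1.support (DCoh.HD P i) ⊆ T) ∧
      ∀ E : DCoh.D Y, DCoh.IsQCohD E → (∀ i, CohB1.support (DCoh.HD E i) ⊆ T) →
        HomVan l E P → Bd l E

/-- what is needed of the filter -/
structure Good (l : Filter ℤ) : Prop where
  trans : TransInv l
  hom : ∀ {Y : Scheme.{u}} [CompactSpace Y] [QuasiSeparatedSpace Y] (E P : DCoh.D Y),
    DCoh.IsQCohD E → Bd l E → DCoh.IsPerfect P → HomVan l E P
  push : ∀ {Y S : Scheme.{u}} (f : Y ⟶ S) [QuasiCompact f] [QuasiSeparated f] [CompactSpace S]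
    [DCoh.HasRpush f] (E : DCoh.D Y), DCoh.IsQCohD E → Bd l E → Bd l ((DCoh.Rpush f).obj E)

lemma good_atTop : Good.{u} atTop where
  trans := transInv_atTop
  hom E P _ hE hP := homVan_atTop hE hP
  push f _ _ _ _ E _ hE := by
    obtain ⟨a, ha⟩ := (bd_atTop_iff E).1 hE
    exact (bd_atTop_iff _).2 ⟨a, Groth.DerivedCoh.PerfPush.isGE_Rpush f E a⟩

lemma good_atBot : Good.{u} atBot where
  trans := transInv_atBot
  hom E P hq hE hP := homVan_atBot hq hE hP
  push f _ _ _ _ E hq hE := by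
    obtain ⟨b, hb⟩ := (bd_atBot_iff E).1 hE
    obtain ⟨N, -, hN⟩ := Groth.Misc4.QCohCd.exists_isZero_HD f
    exact (bd_atBot_iff _).2 ⟨b + N, (DerivedCategory.isLE_iff _ _).2 fun m hm => hN E hq b hb m hm⟩

set_option maxHeartbeats 2000000 in
/-- Detectors glue across an affine open. -/
theorem step {A : Type u} [CommRing A] [CompactSpace X] [QuasiSeparatedSpace X] (hl : Good.{u} l)
    (W : X.Opens) (hW : IsCompact (W : Set X)) (j : Spec (CommRingCat.of A) ⟶ X) [IsOpenImmersion j]
    (hcov : ∀ x, x ∉ W → x ∈ j.opensRange) (hG : Det l (W : Scheme.{u})) : Det l X := by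
  intro T hT hTc
  haveI := Groth.PropsBasic2.preservesFiniteLimits_tilde (CommRingCat.of A)
  haveI := preservesFiniteLimits_restrictFunctor W.ι
  haveI := preservesFiniteLimits_restrictFunctor j
  have hr : IsCompact (Set.range j) := isCompact_range j.continuous
  have hro : IsOpen (Set.range j) := j.isOpenEmbedding.isOpen_range
  obtain ⟨ts, hts'⟩ := ApproxInduction.exists_list j Tᶜ hT.isOpen_compl (hTc hr hro)
  have hts : ∀ y, j y ∈ T ↔ y ∉ U ts := fun y => not_iff_not.1 ((hts' y).trans not_not.symm)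
  obtain ⟨gs, hgs⟩ : ∃ gs : List A, ∀ y, j y ∈ W ↔ y ∈ U gs := ApproxInduction.exists_list j (W : Set X) W.2
    (QuasiSeparatedSpace.inter_isCompact _ _ W.2 hW hro hr)
  let T' : Set X := T ∩ (W : Set X)ᶜ
  have hT' : IsClosed T' := hT.inter W.2.isClosed_compl
  have hT'j : T' ⊆ (j.opensRange : Set X) := fun x hx => hcov x hx.2
  have hpre : ∀ y, j y ∈ T' ↔ y ∉ U (ts ++ gs) := fun y => by
    show j y ∈ T ∧ ¬ j y ∈ W ↔ y ∉ U (ts ++ gs)
    rw [ApproxInduction.mem_U_append, hts, hgs]
  let K' : DCoh.D (Spec (CommRingCat.of A)) := (DCoh.tildeD (CommRingCat.of A)).obj (K A (ts ++ gs))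
  have hK' : DCoh.IsPerfect K' :=
    (Groth.DerivedCoh.TildeD.isPerfect_tildeD_iff _).2 (Groth.KoszulLCI.perfect_koszul _).1
  let P₁ : DCoh.D X := (CxOX.extZeroD j).obj K'
  have hP₁s : ∀ i, CohB1.support (DCoh.HD P₁ i) ⊆ T' := fun i x hx => by
    obtain ⟨y, rfl, hy⟩ := mem_support_ext j K' i hx
    rw [support_of_iso (nonempty_hd_tildeD _ i).some] at hy
    exact (hpre y).2 ((support_tilde_subset_iff (ts ++ gs) _).2 (fun f hf => isTorsion_K f _ hf i) y hy)
  have hP₁ : DCoh.IsPerfect P₁ := by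
    rw [isPerfect_iff]
    intro x
    by_cases hx : x ∈ j.opensRange
    · obtain ⟨y, rfl⟩ := hx
      haveI := isIso_extZeroDAdj_unit j K'
      exact exists_perfOn_of_rd j
        (isPerfect_of_iso (asIso ((Groth.DerivedCoh.ExtZero.extZeroDAdj j).unit.app K')) hK') y
    · let O : X.Opens := ⟨_, hT'.isOpen_compl⟩
      have hz := Groth.DerivedCoh.PerfPush.isZero_restrictD _ hP₁s O fun y hy => hy
      exact exists_perfOn_of_rd O.ι (isPerfect_of_isZero hz) ⟨x, fun h => hx (hT'j h)⟩
  obtain ⟨GW, hGW, hGWs, hgen⟩ := hG (W.ι.base ⁻¹' T) (hT.preimage W.ι.continuous) fun C hC hCo => by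
    have h := hTc (hC.image W.ι.continuous) (W.ι.isOpenEmbedding.isOpenMap _ hCo)
    rw [W.ι.isOpenEmbedding.isEmbedding.isCompact_iff, Set.inter_comm, ← Set.preimage_compl,
      Set.image_inter_preimage, Set.inter_comm]
    exact h
  have hTc' : IsCompact Tᶜ := by simpa using hTc isCompact_univ isOpen_univ
  obtain ⟨R, -, i, p, hR, hRs, hip, -⟩ :=
    Groth.Misc4.QcqsExtend.exists_retract W hW hT hTc' (E := (0 : DCoh.D X))
      (fun q => Groth.Misc4.QCohDPerf.isQCoh_isZero ((DerivedCategory.homologyFunctor _ q).map_isZero (isZero_zero _)))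
      GW hGW hGWs 0
  refine ⟨P₁ ⊞ R, isPerfect_obj₂ _ (binaryBiproductTriangle_distinguished _ _) hP₁ hR,
    fun q => support_hd_middle _ (binaryBiproductTriangle_distinguished _ _) q
      ((hP₁s q).trans Set.inter_subset_left) (hRs q), fun E hE hEs horth => ?_⟩
  have h₁ : HomVan l E P₁ := homVan_retract ⟨biprod.inl, biprod.fst, biprod.inl_fst⟩ horth
  have h₂ : HomVan l E R := homVan_retract ⟨biprod.inr, biprod.snd, biprod.inr_snd⟩ horth
  haveI : PreservesFiniteColimits (Scheme.Modules.restrictFunctor W.ι) :=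
    haveI := (Scheme.Modules.restrictAdjunction W.ι).leftAdjoint_preservesColimits
    inferInstance
  haveI : DCoh.HasRpush W.ι := Groth.Misc4.PushRestrict.hasRightDerived _
  haveI := Groth.FlatMorOne.quasiCompact_ι hW
  let adj : DCoh.restrictD W.ι ⊣ DCoh.Rpush W.ι :=
    Groth.DerivedAdj.derivedAdj (Scheme.Modules.restrictAdjunction W.ι)
      (Groth.DerivedCoh.KFlat.enoughKInj (W : Scheme.{u}))
  haveI := Groth.Misc4.PerfectGenerator.isIso_rpush_counit W adj
  haveI : (DCoh.Rpush W.ι).Additive := adj.right_adjoint_additive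
  obtain ⟨C, q, d, hC⟩ := distinguished_cocone_triangle (adj.unit.app E)
  have hEW : DCoh.IsQCohD ((DCoh.restrictD W.ι).obj E) := Groth.Misc4.QCohDPerf.isQCohD_restrict W.ι hE
  have hCq : DCoh.IsQCohD C := Groth.Misc4.QCohDPerf.isQCohD_obj₂ (Triangle.mk (adj.unit.app E) q d).rotate
    (rot_of_distTriang _ hC) (Groth.Misc4.QCohRpushD.isQCohD W.ι _ hEW) (Groth.Misc4.QCohDPerf.isQCohD_shift hE 1)
  have hC0 : IsZero ((DCoh.restrictD W.ι).obj C) := by
    refine (Triangle.isZero₃_iff_isIso₁ _ ((DCoh.restrictD W.ι).map_distinguished _ hC)).2 ?_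
    show IsIso ((DCoh.restrictD W.ι).map (adj.unit.app E))
    have e := adj.left_triangle_components E
    haveI : IsIso ((DCoh.restrictD W.ι).map (adj.unit.app E) ≫ adj.counit.app ((DCoh.restrictD W.ι).obj E)) :=
      ⟨𝟙 _, (congrArg (· ≫ 𝟙 _) e).trans (Category.comp_id _), (congrArg (𝟙 _ ≫ ·) e).trans (Category.comp_id _)⟩
    exact IsIso.of_isIso_comp_right _ (adj.counit.app ((DCoh.restrictD W.ι).obj E))
  have hCs : ∀ m, CohB1.support (DCoh.HD C m) ⊆ T' := fun m x hx => by
    refine ⟨?_, fun hxW => Set.eq_empty_iff_forall_notMem.1 (isZero_iff_support.1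
      ((DerivedCategory.homologyFunctor _ m).map_isZero hC0)) ⟨x, hxW⟩ ((mem_support_hd_rd W.ι C m ⟨x, hxW⟩).2 hx)⟩
    exact support_hd_middle _ (rot_of_distTriang _ hC) m
      (Thomason.support_Rpush W hT _ (fun k y hy => hEs k ((mem_support_hd_rd W.ι E k y).1 hy)) m)
      ((support_hd_shift E 1 m).le.trans (hEs _)) hx
  have horthC : HomVan l C P₁ := by
    refine (((hl.trans (-1)).eventually h₁)).mono fun n hn φ => ?_
    have hd : φ ≫ d = 0 := by
      refine (cancel_epi ((shiftFunctorAdd' (DCoh.D X) (n + -1) 1 n (by omega)).inv.app P₁)).1 ?_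
      obtain ⟨ψ, hψ⟩ := (shiftFunctor (DCoh.D X) (1 : ℤ)).map_surjective
        ((shiftFunctorAdd' (DCoh.D X) (n + -1) 1 n (by omega)).inv.app P₁ ≫ φ ≫ d)
      rw [comp_zero, ← hψ, hn ψ, Functor.map_zero]
    obtain ⟨ψ, hψ⟩ := Triangle.coyoneda_exact₃ _ hC φ hd
    have hz : IsZero ((DCoh.restrictD W.ι).obj (P₁⟦n⟧)) :=
      Groth.DerivedCoh.PerfPush.isZero_restrictD (T := T') _
        (fun k => (support_hd_shift P₁ n k).le.trans (hP₁s _)) W fun x hx hx' => hx'.2 hx
    have : ψ = 0 := (adj.homEquiv _ _).symm.injective (hz.eq_of_src _ _)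
    rw [hψ, this, zero_comp]
  have hCz : Bd l C := by
    obtain ⟨M, ⟨e⟩⟩ := (Groth.Misc4.QCohTildeD.isQCohD_iff (R := CommRingCat.of A) _).1
      (Groth.Misc4.QCohDPerf.isQCohD_restrict j hCq)
    have ht : ∀ f ∈ ts ++ gs, IsTorsion f M := fun f hf m =>
      (support_tilde_subset_iff (ts ++ gs) _).1 (fun y hy => by
        rw [← support_of_iso ((nonempty_hd_tildeD M m).some.symm ≪≫
          (DerivedCategory.homologyFunctor _ m).mapIso e).symm] at hy
        exact (hpre y).1 (hCs m ((mem_support_hd_rd j C m y).1 hy))) f hf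
    refine horthC.mono fun n hn => isZero_iff_support.2 (Set.eq_empty_iff_forall_notMem.2 fun x hx => ?_)
    obtain ⟨m, rfl⟩ : ∃ m, n = -m := ⟨-n, by omega⟩
    rw [neg_neg] at hx
    obtain ⟨y, rfl⟩ := hcov x (hCs m hx).2
    have hM : IsZero ((DerivedCategory.homologyFunctor (ModuleCat.{u} A) m).obj M) := by
      refine isZero_of_orth (ts ++ gs) ht m fun φ => ?_
      let adjJ := Groth.DerivedCoh.ExtZero.extZeroDAdj j
      haveI : IsIso adjJ.unit := haveI := fun Z => isIso_extZeroDAdj_unit j Z; NatIso.isIso_of_isIso_app _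
      let ψ : K' ⟶ (DCoh.restrictD j).obj (C⟦m⟧) :=
        (DCoh.tildeD (CommRingCat.of A)).map φ ≫ ((DCoh.tildeD (CommRingCat.of A)).commShiftIso m).hom.app M ≫
          e.hom⟦m⟧' ≫ ((DCoh.restrictD j).commShiftIso m).inv.app C
      have hψ : ψ = 0 := by
        refine (adjJ.homEquiv _ _).symm.injective ?_
        have h0 : (adjJ.homEquiv _ _).symm ψ = 0 := by
          obtain ⟨χ, hχ⟩ := (shiftFunctor (DCoh.D X) m).map_surjective
            (((shiftFunctorCompIsoId (DCoh.D X) (-m) m (by omega)).app P₁).hom ≫ (adjJ.homEquiv _ _).symm ψ)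
          refine (cancel_epi ((shiftFunctorCompIsoId (DCoh.D X) (-m) m (by omega)).app P₁).hom).1 ?_
          rw [← hχ, hn χ, Functor.map_zero, comp_zero]
        rw [h0, Adjunction.homEquiv_counit, Functor.map_zero, zero_comp]
      have h : (DCoh.tildeD (CommRingCat.of A)).map φ ≫
          (((DCoh.tildeD (CommRingCat.of A)).commShiftIso m).app M ≪≫ (shiftFunctor _ m).mapIso e ≪≫
            (((DCoh.restrictD j).commShiftIso m).app C).symm).hom = 0 := hψ
      have h' : (DCoh.tildeD (CommRingCat.of A)).map φ = 0 := (cancel_mono _).1 (h.trans zero_comp.symm)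
      exact (Groth.Misc4.QCohTildeD.bijective_map (R := CommRingCat.of A) _ _).1 (h'.trans (Functor.map_zero _ _ _).symm)
    have h := (mem_support_hd_rd j C m y).2 hx
    rw [← support_of_iso ((nonempty_hd_tildeD M m).some.symm ≪≫ (DerivedCategory.homologyFunctor _ m).mapIso e)] at h
    exact Set.eq_empty_iff_forall_notMem.1 (isZero_iff_support.1 ((tilde.functor (CommRingCat.of A)).map_isZero hM)) y h
  haveI : QuasiSeparatedSpace (W : Scheme.{u}) := QuasiSeparatedSpace.of_isOpenEmbedding W.ι.isOpenEmbedding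
  have hW0 : Bd l ((DCoh.restrictD W.ι).obj E) := by
    refine hgen _ hEW (fun k y hy => hEs k ((mem_support_hd_rd W.ι E k y).1 hy))
      ((h₂.and (hl.hom C R hCq hCz hR)).mono fun n hn φ => ?_)
    let σ : (DCoh.restrictD W.ι).obj (R⟦n⟧) ⟶ GW⟦n⟧ := ((DCoh.restrictD W.ι).commShiftIso n).hom.app R ≫ p⟦n⟧'
    have h0 : σ ≫ φ = 0 := by
      refine (adj.homEquiv _ _).injective ?_
      obtain ⟨ψ, hψ⟩ := Triangle.coyoneda_exact₂ _ hC (adj.homEquiv _ _ (σ ≫ φ)) (hn.2 _)
      rw [hψ, hn.1 ψ, zero_comp, Adjunction.homEquiv_unit, Functor.map_zero, comp_zero]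
    calc φ = (i⟦n⟧' ≫ ((DCoh.restrictD W.ι).commShiftIso n).inv.app R) ≫ σ ≫ φ := by
          simp only [σ, Category.assoc, Iso.inv_hom_id_app_assoc]
          rw [← Functor.map_comp_assoc, hip, CategoryTheory.Functor.map_id, Category.id_comp]
      _ = 0 := by rw [h0, comp_zero]
  refine ((hl.push W.ι _ hEW hW0).and ((hl.trans 1).eventually hCz)).mono fun n hn =>
    isZero_iff_support.2 (Set.subset_empty_iff.1 ?_)
  refine support_hd_middle _ (inv_rot_of_distTriang _ hC) (-n) ?_ (isZero_iff_support.1 hn.1).le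
  refine ((support_hd_shift C (-1) (-n)).le).trans ?_
  rw [show -1 + -n = -(n + 1) by omega]
  exact (isZero_iff_support.1 hn.2).le

/-- Detectors exist on quasi-compact quasi-separated schemes. -/
theorem det (hl : Good.{u} l) (X : Scheme.{u}) [CompactSpace X] [QuasiSeparatedSpace X] : Det l X := by
  have key := Groth.CohBase.qcqs_induction_on
    (fun O : X.Opens => ∀ (Y : Scheme.{u}) (i : Y ⟶ X) [IsOpenImmersion i], i.opensRange = O → Det l Y) ⊤
    (by simpa using (isQuasiSeparated_univ_iff (α := X)).2 inferInstance) ?_ ?_ ⊤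
    (by simpa using (isCompact_univ : IsCompact (Set.univ : Set X))) le_rfl
  · exact key X (𝟙 X) (TopologicalSpace.Opens.ext (by simp))
  · intro O hO _ Y i _ hi
    haveI : IsAffine Y := by
      haveI : IsAffine (O : Scheme.{u}) := hO
      exact IsAffine.of_isIso (IsOpenImmersion.isoOfRangeEq O.ι i (by
        rw [Scheme.Opens.range_ι, ← hi]; rfl)).inv
    refine step hl (⊥ : Y.Opens) (by simp) (Groth.Misc4.AffineExtend.chart Y)
      (fun x _ => Groth.Misc4.AffineExtend.mem_opensRange_chart Y x) ?_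
    intro T _ _
    refine ⟨0, isPerfect_of_isZero (isZero_zero _), fun q z => z.2.elim, fun E _ _ _ => ?_⟩
    exact Eventually.of_forall fun q => isZero_iff_support.2 (Set.eq_empty_iff_forall_notMem.2 fun z => z.2.elim)
  · intro U V hUc hV _ _ hU _ _ Y i _ hi
    have hle : U ≤ i.opensRange ∧ V ≤ i.opensRange := by rw [hi]; exact ⟨le_sup_left, le_sup_right⟩
    have hc : ∀ Z : X.Opens, Z ≤ i.opensRange → IsCompact (Z : Set X) → IsCompact ((i ⁻¹ᵁ Z : Y.Opens) : Set Y) :=
      fun Z hZ hZc => by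
        rw [i.isOpenEmbedding.isEmbedding.isCompact_iff]
        show IsCompact (i '' (i ⁻¹' (Z : Set X)))
        rwa [Set.image_preimage_eq_of_subset (fun x hx => hZ hx)]
    haveI : QuasiSeparatedSpace Y := QuasiSeparatedSpace.of_isOpenEmbedding i.isOpenEmbedding
    haveI : CompactSpace Y := by
      refine ⟨?_⟩
      rw [i.isOpenEmbedding.isEmbedding.isCompact_iff, Set.image_univ,
        show Set.range i = ((U ⊔ V : X.Opens) : Set X) from congrArg (fun O : X.Opens => (O : Set X)) hi]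
      exact hUc.union hV.isCompact
    refine step hl (i ⁻¹ᵁ U) (hc U hle.1 hUc) (hV.preimage_of_isOpenImmersion i hle.2).fromSpec (fun y hy => ?_)
      (hU _ ((i ⁻¹ᵁ U).ι ≫ i) (by
        rw [Scheme.Hom.opensRange_comp, Scheme.Opens.opensRange_ι, Scheme.Hom.image_preimage_eq_opensRange_inf]
        exact inf_eq_right.2 hle.1))
    show y ∈ Set.range (hV.preimage_of_isOpenImmersion i hle.2).fromSpec
    rw [(hV.preimage_of_isOpenImmersion i hle.2).range_fromSpec]
    have h : i y ∈ U ⊔ V := hi ▸ ⟨y, rfl⟩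
    exact h.resolve_left hy

/-- A perfect generator detects eventual vanishing of cohomology. -/
theorem bd_iff_homVan (hl : Good.{u} l) [CompactSpace X] [QuasiSeparatedSpace X] {G : DCoh.D X}
    (hG : DCoh.IsPerfect G)
    (hgen : ∀ E : DCoh.D X, DCoh.IsQCohD E → (∀ (n : ℤ) (φ : G⟦n⟧ ⟶ E), φ = 0) → IsZero E)
    {E : DCoh.D X} (hE : DCoh.IsQCohD E) : Bd l E ↔ HomVan l E G := by
  refine ⟨fun h => hl.hom E G hE h hG, fun h => ?_⟩
  obtain ⟨P, hP, -, hdet⟩ := det hl X Set.univ isClosed_univ (fun C _ _ => by simp)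
  exact hdet E hE (fun i => Set.subset_univ _) (homVan_of_generates hl.trans hG hgen h P hP)

end Groth.DerivedCoh.ClassGen
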